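import Groth.Agent.Lib.Verdier.Kernel
import Mathlib.Algebra.Module.LocalizedModule.Basic
import Mathlib.CategoryTheory.Linear.LinearFunctor
import Mathlib.RingTheory.Ideal.Maximal

/-!
# Verdier quotients of linear triangulated categories by torsion objects
-/

universe w v v' u u'

open CategoryTheory CategoryTheory.Limits CategoryTheory.Pretriangulated
open scoped ZeroObject

namespace Groth.Agent.Lib.Verdier.LinearLocalization

set_option backward.isDefEq.respectTransparency false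

variable {A : Type w} [CommRing A]
  {T : Type u} [Category.{v} T] [Preadditive T] [Linear A T] [HasZeroObject T] [HasShift T ℤ]
  [∀ n : ℤ, (shiftFunctor T n).Additive] [∀ n : ℤ, (shiftFunctor T n).Linear A]
  [Pretriangulated T] [IsTriangulated T]
  (U : ObjectProperty T) [U.IsTriangulated] [U.IsClosedUnderIsomorphisms]
  [U.IsStableUnderRetracts]
  {E : Type u'} [Category.{v'} E] [Preadditive E] [Linear A E]
  (Q : T ⥤ E) [Q.Additive] [Q.Linear A] [Q.IsLocalization U.trW]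

omit [∀ n : ℤ, (shiftFunctor T n).Linear A] in
theorem mem_iff_forall_maximal (X : T) :
    U X ↔ ∀ m : Ideal A, m.IsMaximal → ∃ s : A, s ∉ m ∧ s • 𝟙 (Q.obj X) = 0 := by
  refine ⟨fun hX m hm => ⟨1, fun h => hm.ne_top ((Ideal.eq_top_iff_one m).2 h), ?_⟩, fun h => ?_⟩
  · rw [one_smul, ← IsZero.iff_id_eq_zero]
    exact Kernel.isZero_of_mem U Q hX
  · let I : Ideal A :=
      { carrier := {s | s • 𝟙 (Q.obj X) = 0}
        add_mem' := fun {a b} ha hb => by
          simp only [Set.mem_setOf_eq] at *; rw [add_smul, ha, hb, add_zero]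
        zero_mem' := by simp
        smul_mem' := fun c {a} ha => by
          simp only [Set.mem_setOf_eq] at *; rw [smul_eq_mul, mul_smul, ha, smul_zero] }
    have hI : I = ⊤ := by
      by_contra hne
      obtain ⟨m, hm, hIm⟩ := Ideal.exists_le_maximal I hne
      obtain ⟨s, hs, hs'⟩ := h m hm
      exact hs (hIm hs')
    have h1 : (1 : A) • 𝟙 (Q.obj X) = 0 := (Ideal.eq_top_iff_one I).1 hI
    rw [one_smul, ← IsZero.iff_id_eq_zero] at h1
    obtain ⟨Z', Y, hY, ⟨e⟩⟩ := (Kernel.isZero_iff_exists_biprod U Q X).1 h1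
    exact U.prop_of_retract (Retract.trans { i := biprod.inl, r := biprod.fst }
      ⟨e.hom, e.inv, e.hom_inv_id⟩) hY

variable (S : Submonoid A)

/-- Objects annihilated by an element of `S`. -/
def killed : ObjectProperty T := fun Z => ∃ f ∈ S, f • 𝟙 Z = 0

instance : (killed (T := T) S).IsClosedUnderIsomorphisms where
  of_iso {Z Z'} e := by
    rintro ⟨f, hf, h⟩
    refine ⟨f, hf, ?_⟩
    have : f • 𝟙 Z' = e.inv ≫ (f • 𝟙 Z) ≫ e.hom := by simp
    rw [this, h, zero_comp, comp_zero]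

instance : (killed (T := T) S).IsStableUnderRetracts where
  of_retract {Z Z'} r := by
    rintro ⟨f, hf, h⟩
    refine ⟨f, hf, ?_⟩
    have : f • 𝟙 Z = r.i ≫ (f • 𝟙 Z') ≫ r.r := by simp
    rw [this, h, zero_comp, comp_zero]

instance : (killed (T := T) S).IsTriangulated where
  exists_zero := ⟨0, isZero_zero T, 1, S.one_mem, (isZero_zero T).eq_of_src _ _⟩
  isStableUnderShiftBy n := ⟨fun Z => by
    rintro ⟨f, hf, h⟩
    refine ⟨f, hf, ?_⟩
    rw [← (shiftFunctor T n).map_id, ← (shiftFunctor T n).map_smul, h, Functor.map_zero]⟩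
  toIsTriangulatedClosed₂ := .mk' (fun D hD => by
    rintro ⟨f, hf, h1⟩ ⟨g, hg, h3⟩
    refine ⟨g * f, S.mul_mem hg hf, ?_⟩
    obtain ⟨m, hm⟩ := Triangle.coyoneda_exact₂ D hD (g • 𝟙 D.obj₂) (by
      rw [Linear.smul_comp, Category.id_comp, ← Category.comp_id D.mor₂, ← Linear.comp_smul, h3,
        comp_zero])
    have hf1 : f • D.mor₁ = 0 := by
      rw [← Category.id_comp D.mor₁, ← Linear.smul_comp, h1, zero_comp]
    rw [mul_comm, mul_smul, hm, ← Linear.comp_smul, hf1, comp_zero])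

omit [IsTriangulated T] in
lemma killed_cone {X Z : T} {f : A} (hf : f ∈ S) {g : X ⟶ Z} {h : Z ⟶ X⟦(1 : ℤ)⟧}
    (hT : Triangle.mk (f • 𝟙 X) g h ∈ distTriang T) : killed S Z := by
  refine ⟨f * f, S.mul_mem hf hf, ?_⟩
  have h12 : f • g = 0 := by
    have := comp_distTriang_mor_zero₁₂ _ hT
    change (f • 𝟙 X) ≫ g = 0 at this
    rwa [Linear.smul_comp, Category.id_comp] at this
  have h31 : f • h = 0 := by
    have := comp_distTriang_mor_zero₃₁ _ hT
    change h ≫ (f • 𝟙 X)⟦(1 : ℤ)⟧' = 0 at this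
    rwa [Functor.map_smul, CategoryTheory.Functor.map_id, Linear.comp_smul,
      Category.comp_id] at this
  obtain ⟨m, hm⟩ : ∃ m : X⟦(1 : ℤ)⟧ ⟶ Z, f • 𝟙 Z = h ≫ m :=
    Triangle.yoneda_exact₃ _ hT (f • 𝟙 Z) (by
      change g ≫ (f • 𝟙 Z) = 0
      rw [Linear.comp_smul, Category.comp_id, h12])
  rw [mul_smul, hm, ← Linear.smul_comp, h31, zero_comp]

theorem isLocalizedModule
    (hU : ∀ (X : T) (f : A), f ∈ S → ∀ (Z : T) (g : X ⟶ Z) (h : Z ⟶ X⟦(1 : ℤ)⟧),
      Triangle.mk (f • 𝟙 X) g h ∈ distTriang T → U Z)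
    (hmin : ∀ (U' : ObjectProperty T) [U'.IsTriangulated] [U'.IsClosedUnderIsomorphisms]
      [U'.IsStableUnderRetracts],
      (∀ (X : T) (f : A), f ∈ S → ∀ (Z : T) (g : X ⟶ Z) (h : Z ⟶ X⟦(1 : ℤ)⟧),
        Triangle.mk (f • 𝟙 X) g h ∈ distTriang T → U' Z) → U ≤ U') (X Y : T) :
    IsLocalizedModule S (Q.mapLinearMap A : (X ⟶ Y) →ₗ[A] (Q.obj X ⟶ Q.obj Y)) := by
  have hle : U ≤ killed S := hmin _ fun X f hf Z g h hT => killed_cone S hf hT
  have hres : ∀ {W : T} (s : W ⟶ X), U.trW s → ∃ f ∈ S, ∃ u : X ⟶ W, f • 𝟙 X = u ≫ s := by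
    rintro W s ⟨Z, c, d, hT, hZ⟩
    obtain ⟨f, hf, hfZ⟩ := hle _ hZ
    exact ⟨f, hf, Triangle.coyoneda_exact₂ _ hT (f • 𝟙 X) (by
      change (f • 𝟙 X) ≫ c = 0
      rw [Linear.smul_comp, Category.id_comp, ← Category.comp_id c, ← Linear.comp_smul, hfZ,
        comp_zero])⟩
  refine ⟨fun f => ?_, fun φ => ?_, fun {a b} hab => ?_⟩
  · have hiso : IsIso ((f : A) • 𝟙 (Q.obj X)) := by
      obtain ⟨Z, g, h, hT⟩ := distinguished_cocone_triangle ((f : A) • 𝟙 X)
      have := Localization.inverts Q U.trW _ ⟨Z, g, h, hT, hU X f f.2 Z g h hT⟩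
      rwa [Q.map_smul, Q.map_id] at this
    rw [Module.End.isUnit_iff]
    have heq : ∀ φ : Q.obj X ⟶ Q.obj Y, (f : A) • φ = ((f : A) • 𝟙 (Q.obj X)) ≫ φ := fun φ => by
      rw [Linear.smul_comp, Category.id_comp]
    refine ⟨fun φ ψ hφψ => ?_, fun φ => ⟨inv ((f : A) • 𝟙 (Q.obj X)) ≫ φ, ?_⟩⟩
    · rw [← cancel_epi ((f : A) • 𝟙 (Q.obj X)), ← heq, ← heq]
      exact hφψ
    · change (f : A) • (inv ((f : A) • 𝟙 (Q.obj X)) ≫ φ) = φ
      rw [heq, IsIso.hom_inv_id_assoc]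
  · obtain ⟨ψ, rfl⟩ := Localization.exists_rightFraction Q U.trW φ
    obtain ⟨f, hf, u, hu⟩ := hres ψ.s ψ.hs
    refine ⟨(u ≫ ψ.f, ⟨f, hf⟩), ?_⟩
    change f • ψ.map Q _ = Q.map (u ≫ ψ.f)
    have : f • ψ.map Q (Localization.inverts Q U.trW) =
        (f • 𝟙 (Q.obj X)) ≫ ψ.map Q (Localization.inverts Q U.trW) := by
      rw [Linear.smul_comp, Category.id_comp]
    rw [this, ← Q.map_id, ← Q.map_smul, hu, Q.map_comp, Category.assoc,
      MorphismProperty.RightFraction.map_s_comp_map, Q.map_comp]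
  · obtain ⟨W, s, hs, eq⟩ := (MorphismProperty.map_eq_iff_precomp Q U.trW a b).1 hab
    obtain ⟨f, hf, u, hu⟩ := hres s hs
    refine ⟨⟨f, hf⟩, ?_⟩
    change f • a = f • b
    rw [← Category.id_comp a, ← Category.id_comp b, ← Linear.smul_comp, ← Linear.smul_comp, hu,
      Category.assoc, Category.assoc, eq]

end Groth.Agent.Lib.Verdier.LinearLocalization
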