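import Mathlib.CategoryTheory.Localization.CalculusOfFractions
import Mathlib.CategoryTheory.Localization.Predicate
import Mathlib.CategoryTheory.ObjectProperty.FullSubcategory

/-!
# Localization of a full subcategory with enough resolutions
-/

universe v v' u u'

open CategoryTheory

namespace Groth.Agent.Lib.Verdier.Resolutions

set_option backward.isDefEq.respectTransparency false

variable {D : Type u} [Category.{v} D] (P : ObjectProperty D) (S : MorphismProperty D)
  [S.HasRightCalculusOfFractions] (hP : ∀ X : D, ∃ (X' : D) (s : X' ⟶ X), P X' ∧ S s)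

include hP

lemma hasRightCalculusOfFractions :
    (S.inverseImage P.ι).HasRightCalculusOfFractions where
  exists_rightFraction X Y φ := by
    obtain ⟨ψ, hψ⟩ := (MorphismProperty.LeftFraction.mk φ.f.hom φ.s.hom φ.hs :
      S.LeftFraction X.obj Y.obj).exists_rightFraction
    obtain ⟨W, t, hW, ht⟩ := hP ψ.X'
    refine ⟨⟨(ObjectProperty.homMk (t ≫ ψ.s) : (⟨W, hW⟩ : P.FullSubcategory) ⟶ X),
      S.comp_mem _ _ ht ψ.hs, ObjectProperty.homMk (t ≫ ψ.f)⟩, ?_⟩
    ext
    simpa using t ≫= hψ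
  ext X Y Y' f₁ f₂ s hs h := by
    obtain ⟨W₀, t, ht, eq⟩ := MorphismProperty.HasRightCalculusOfFractions.ext
      f₁.hom f₂.hom s.hom hs (congrArg InducedCategory.Hom.hom h)
    obtain ⟨W, t', hW, ht'⟩ := hP W₀
    refine ⟨⟨W, hW⟩, ObjectProperty.homMk (t' ≫ t), S.comp_mem _ _ ht' ht, ?_⟩
    ext
    simp [eq]

variable {E : Type u'} [Category.{v'} E] (Q : D ⥤ E) [Q.IsLocalization S]

theorem isLocalization : (P.ι ⋙ Q).IsLocalization (S.inverseImage P.ι) := by
  have := hasRightCalculusOfFractions P S hP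
  let S' := S.inverseImage P.ι
  have hinv : S'.IsInvertedBy (P.ι ⋙ Q) := fun _ _ f hf => Localization.inverts Q S _ hf
  let F := Localization.lift (P.ι ⋙ Q) hinv S'.Q
  let e : S'.Q ⋙ F ≅ P.ι ⋙ Q := Localization.fac (P.ι ⋙ Q) hinv S'.Q
  have hQ := Localization.essSurj Q S
  have hQ' := Localization.essSurj S'.Q S'
  have hnat : ∀ {X Y : P.FullSubcategory} (f : X ⟶ Y),
      F.map (S'.Q.map f) = e.hom.app X ≫ Q.map f.hom ≫ e.inv.app Y := fun f =>
    (NatIso.naturality_2 e f).symm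
  have hfull : ∀ (X Y : P.FullSubcategory) (g : F.obj (S'.Q.obj X) ⟶ F.obj (S'.Q.obj Y)),
      ∃ g' : S'.Q.obj X ⟶ S'.Q.obj Y, F.map g' = g := by
    intro X Y g
    obtain ⟨φ, hφ⟩ := Localization.exists_rightFraction Q S (e.inv.app X ≫ g ≫ e.hom.app Y)
    obtain ⟨W, t, hW, ht⟩ := hP φ.X'
    let s' : (⟨W, hW⟩ : P.FullSubcategory) ⟶ X := ObjectProperty.homMk (t ≫ φ.s)
    have hs' : S' s' := S.comp_mem _ _ ht φ.hs
    have : IsIso (S'.Q.map s') := Localization.inverts S'.Q S' s' hs'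
    refine ⟨inv (S'.Q.map s') ≫ S'.Q.map (ObjectProperty.homMk (t ≫ φ.f)), ?_⟩
    rw [Functor.map_comp, Functor.map_inv, IsIso.inv_comp_eq, hnat, hnat]
    simp only [s', ObjectProperty.homMk_hom, Functor.map_comp, Category.assoc]
    have h2 : Q.map φ.f = Q.map φ.s ≫ e.inv.app X ≫ g ≫ e.hom.app Y := by
      rw [hφ, MorphismProperty.RightFraction.map_s_comp_map]
    rw [h2]
    simp
  have hfaith : ∀ (X Y : P.FullSubcategory) (g₁ g₂ : S'.Q.obj X ⟶ S'.Q.obj Y),
      F.map g₁ = F.map g₂ → g₁ = g₂ := by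
    intro X Y g₁ g₂ h
    obtain ⟨φ, rfl⟩ := Localization.exists_rightFraction S'.Q S' g₁
    obtain ⟨ψ, hψ⟩ := Localization.exists_rightFraction S'.Q S' (S'.Q.map φ.s ≫ g₂)
    have : IsIso (S'.Q.map φ.s) := Localization.inverts S'.Q S' φ.s φ.hs
    have : IsIso (S'.Q.map ψ.s) := Localization.inverts S'.Q S' ψ.s ψ.hs
    rw [← cancel_epi (S'.Q.map φ.s), ← cancel_epi (S'.Q.map ψ.s),
      MorphismProperty.RightFraction.map_s_comp_map, hψ,
      MorphismProperty.RightFraction.map_s_comp_map, ← Functor.map_comp]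
    have h' := congrArg (fun z => F.map (S'.Q.map ψ.s) ≫ F.map (S'.Q.map φ.s) ≫ z) h
    rw [← F.map_comp (S'.Q.map φ.s), ← F.map_comp (S'.Q.map φ.s),
      MorphismProperty.RightFraction.map_s_comp_map, hψ, ← F.map_comp, ← F.map_comp,
      MorphismProperty.RightFraction.map_s_comp_map, ← Functor.map_comp] at h'
    rw [hnat, hnat] at h'
    obtain ⟨W₀, t, ht, eq⟩ := (MorphismProperty.map_eq_iff_precomp Q S _ _).1
      ((cancel_mono _).1 ((cancel_epi _).1 h'))
    obtain ⟨W, t', hW, ht'⟩ := hP W₀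
    refine (MorphismProperty.map_eq_iff_precomp S'.Q S' _ _).2
      ⟨⟨W, hW⟩, ObjectProperty.homMk (t' ≫ t), S.comp_mem _ _ ht' ht, ?_⟩
    ext
    simpa using t' ≫= eq
  have : F.Faithful := ⟨fun {A B} a b h => by
    rw [← cancel_epi (S'.Q.objObjPreimageIso A).hom, ← cancel_mono (S'.Q.objObjPreimageIso B).inv]
    apply hfaith
    simp [h]⟩
  have : F.Full := ⟨fun {A B} g => by
    obtain ⟨g', hg'⟩ := hfull _ _ (F.map (S'.Q.objObjPreimageIso A).hom ≫ g ≫
      F.map (S'.Q.objObjPreimageIso B).inv)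
    refine ⟨(S'.Q.objObjPreimageIso A).inv ≫ g' ≫ (S'.Q.objObjPreimageIso B).hom, ?_⟩
    simp only [Functor.map_comp, hg', Category.assoc]
    rw [← Functor.map_comp, Iso.inv_hom_id, CategoryTheory.Functor.map_id, ← Functor.map_comp_assoc,
      Iso.inv_hom_id, CategoryTheory.Functor.map_id, Category.id_comp, Category.comp_id]⟩
  have : F.EssSurj := ⟨fun z => by
    obtain ⟨X', s, hX', hs⟩ := hP (Q.objPreimage z)
    have : IsIso (Q.map s) := Localization.inverts Q S s hs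
    exact ⟨S'.Q.obj ⟨X', hX'⟩, ⟨e.app _ ≪≫ asIso (Q.map s) ≪≫ Q.objObjPreimageIso z⟩⟩⟩
  have : F.IsEquivalence := { }
  exact Functor.IsLocalization.of_equivalence_target S'.Q S' (P.ι ⋙ Q) F.asEquivalence e

end Groth.Agent.Lib.Verdier.Resolutions
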